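import Cfsg.Agent.H47.TwoCyc.Tools
import Cfsg.Agent.H954.OutLin
import Cfsg.Agent.H436.TTPsl2
import Cfsg.Agent.S2262

/-!
# TEAM TWOCYC, row `PSL₂(q)`, `q ≥ 7`, `q ≠ 9` (helper47, S3507)
-/

set_option autoImplicit false
set_option linter.unusedSectionVars false

namespace Cfsg.Agent.H47.TwoCyc

open MulAction Cfsg.Agent.H384.Cyc Cfsg.Agent.H482.TwoCyc Cfsg.Agent.ClassicalGeometry

universe u v w

theorem mo_psl2 {F : Type w} [Field F] [Fintype F] (h7 : 7 ≤ Fintype.card F) :
    Mo (Matrix.ProjectiveSpecialLinearGroup (Fin 2) F) (Fintype.card F + 1) := by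
  intro α
  obtain ⟨h1, -⟩ := Cfsg.Agent.S2262.result (F := F) 2 le_rfl (fun _ => by omega) (by omega) (by omega)
  have h2 := h1 α
  rw [H436.TT.sq_sub_one] at h2
  exact Nat.le_of_mul_le_mul_left h2 (by omega)

section md

variable {X : Type u} [Group X] [Finite X] [IsSimpleGroup X] {F : Type w} [Field F] [Fintype F]

theorem up_ne : QuotientGroup.mk' (Subgroup.center (Matrix.SpecialLinearGroup (Fin 2) F))
    (Cfsg.Agent.H934.HeisChev.up (1 : F)) ≠ 1 := by
  intro h
  have h2 := (QuotientGroup.eq_one_iff _).1 h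
  rw [Subgroup.mem_center_iff] at h2
  have h3 := congrArg (fun A : Matrix.SpecialLinearGroup (Fin 2) F => (A : Matrix (Fin 2) (Fin 2) F) 0 0)
    (h2 ⟨!![1, 0; 1, 1], by rw [Matrix.det_fin_two_of]; ring⟩)
  have h4 : ((!![(1 : F), 0; 1, 1] * !![(1 : F), 1; 0, 1] : Matrix (Fin 2) (Fin 2) F)) 0 0 =
    ((!![(1 : F), 1; 0, 1] * !![(1 : F), 0; 1, 1] : Matrix (Fin 2) (Fin 2) F)) 0 0 := h3
  rw [Matrix.mul_fin_two, Matrix.mul_fin_two] at h4
  simp at h4

/-- the map from `SL₂(F)` -/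
noncomputable def prj (e : X ≃* Matrix.ProjectiveSpecialLinearGroup (Fin 2) F) :
    Matrix.SpecialLinearGroup (Fin 2) F →* X :=
  e.symm.toMonoidHom.comp (QuotientGroup.mk' (Subgroup.center (Matrix.SpecialLinearGroup (Fin 2) F)))

theorem prj_up_ne (e : X ≃* Matrix.ProjectiveSpecialLinearGroup (Fin 2) F) :
    prj e (Cfsg.Agent.H934.HeisChev.up (1 : F)) ≠ 1 := by
  intro h
  apply up_ne (F := F)
  have h1 : e.symm (QuotientGroup.mk' (Subgroup.center (Matrix.SpecialLinearGroup (Fin 2) F))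
    (Cfsg.Agent.H934.HeisChev.up (1 : F))) = 1 := h
  rwa [MulEquiv.map_eq_one_iff] at h1

theorem md_even (e : X ≃* Matrix.ProjectiveSpecialLinearGroup (Fin 2) F) (h2 : 2 ∣ Fintype.card F) :
    H954.OutDeg.MD X (Fintype.card F - 1) := by
  have hchar : CharP F 2 := by
    obtain ⟨n, hp, h⟩ := FiniteField.card F (ringChar F)
    have h3 : ringChar F = 2 := by
      rw [h] at h2
      exact ((Nat.prime_dvd_prime_iff_eq Nat.prime_two hp).1 (Nat.prime_two.dvd_of_dvd_pow h2)).symm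
    rw [← h3]
    exact ringChar.charP F
  have : Fact (Nat.Prime 2) := ⟨Nat.prime_two⟩
  refine H954.OutDeg.md_param (X := X) (fun t : F => prj e (Cfsg.Agent.H934.HeisChev.up t)) ?_ (prj_up_ne e) ?_
  · intro s t
    rw [← map_mul]
    congr 1
    apply Subtype.ext
    show !![1, s + t; 0, 1] = !![1, s; 0, 1] * !![1, t; 0, 1]
    rw [Matrix.mul_fin_two]
    simp [add_comm]
  · intro c hc
    obtain ⟨d, hd⟩ : ∃ d : F, d ^ 2 = c := by
      have h6 := (PerfectRing.bijective_frobenius (R := F) (p := 2)).2 c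
      obtain ⟨d, hd⟩ := h6
      exact ⟨d, hd⟩
    have hd0 : d ≠ 0 := by
      rintro rfl
      apply hc
      rw [← hd]
      ring
    refine ⟨prj e (Cfsg.Agent.H934.HeisChev.dg d hd0), ?_⟩
    rw [mul_inv_eq_iff_eq_mul, ← map_mul, ← map_mul, Cfsg.Agent.H934.HeisChev.dg_up, hd, mul_one]

theorem md_odd (e : X ≃* Matrix.ProjectiveSpecialLinearGroup (Fin 2) F) :
    H954.OutDeg.MD X (Fintype.card F / 2) :=
  H954.OutDeg.md_half_SL (prj e) ⟨1, prj_up_ne e⟩

end md

section num

theorem num_pgl {Q m q h : ℕ} (h7 : 7 ≤ q) (h9 : q ≠ 9) (hodd : q % 2 = 1) (hm : Q ^ m = q) (hm2 : 2 ≤ m)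
    (hh : h ≤ Q * (Q ^ 2 - 1)) (key : q * (q - 1) ≤ 4 * h) : False := by
  have hQ2 : 2 ≤ Q := by
    rcases Q with _ | _ | Q
    · rw [zero_pow (by omega)] at hm
      omega
    · rw [zero_add, one_pow] at hm
      omega
    · omega
  have hQodd : Q % 2 = 1 := by
    rcases Nat.even_or_odd Q with h1 | h1
    · have h2 : Even q := by
        rw [← hm]
        exact (Nat.even_pow.2 ⟨h1, by omega⟩)
      rw [Nat.even_iff] at h2
      omega
    · exact Nat.odd_iff.1 h1
  have hQ3 : 3 ≤ Q := by omega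
  rcases Nat.lt_or_ge m 3 with h3 | h3
  · have : m = 2 := by omega
    subst this
    subst hm
    have h4 : Q ^ 2 * (Q ^ 2 - 1) ≤ 4 * (Q * (Q ^ 2 - 1)) := key.trans (Nat.mul_le_mul_left _ hh)
    have h5 : 0 < Q ^ 2 - 1 := by
      have : 9 ≤ Q ^ 2 := by nlinarith
      omega
    have h6 : Q * (Q * (Q ^ 2 - 1)) ≤ 4 * (Q * (Q ^ 2 - 1)) := by
      calc Q * (Q * (Q ^ 2 - 1)) = Q ^ 2 * (Q ^ 2 - 1) := by ring
        _ ≤ _ := h4
    have h7' := Nat.le_of_mul_le_mul_right h6 (by positivity)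
    have : Q = 3 := by omega
    subst this
    exact h9 (by norm_num)
  · have h4 : Q ^ 3 ≤ q := by
      rw [← hm]
      exact Nat.pow_le_pow_right (by omega) h3
    have h5 : q * (q - 1) ≤ 4 * (Q * (Q ^ 2 - 1)) := key.trans (Nat.mul_le_mul_left _ hh)
    have h6 : Q * (Q ^ 2 - 1) ≤ Q ^ 3 := by
      calc Q * (Q ^ 2 - 1) ≤ Q * Q ^ 2 := Nat.mul_le_mul_left _ (by omega)
        _ = _ := by ring
    have h8 : q * (q - 1) ≤ q * 4 := by
      calc _ ≤ _ := h5
        _ ≤ 4 * Q ^ 3 := Nat.mul_le_mul_left _ h6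
        _ ≤ 4 * q := Nat.mul_le_mul_left _ h4
        _ = _ := by ring
    have h10 := Nat.le_of_mul_le_mul_left h8 (by omega)
    omega

end num

section main

variable {G : Type u} {Ω : Type v} [Group G] [MulAction G Ω] {T : Subgroup G} {g : G}

/-- the exceptional case `A₄ < L₂(7)` -/
theorem no_a4 (A : TC G Ω T g) (a : Ω) (e : ↥(stabilizer ↥T a) ≃* alternatingGroup (Fin 4))
    (hT : Nat.card T = 168) : False := by
  have := A.finG
  have hmul : ∀ x y : alternatingGroup (Fin 4), x ^ 2 = 1 → y ^ 2 = 1 → (x * y) ^ 2 = 1 := by decide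
  have hE : ∀ (t : T) (ht : t • a = a), t ^ 2 = 1 ↔ (e ⟨t, ht⟩) ^ 2 = 1 := by
    intro t ht
    rw [← map_pow, MulEquiv.map_eq_one_iff]
    exact ⟨fun h => Subtype.ext h, fun h => congrArg Subtype.val h⟩
  let L : Subgroup T :=
    { carrier := {t | t • a = a ∧ t ^ 2 = 1}
      one_mem' := ⟨one_smul _ _, one_pow _⟩
      mul_mem' := by
        rintro s t ⟨hs, hs2⟩ ⟨ht, ht2⟩
        have hst : (s * t) • a = a := by rw [mul_smul, ht, hs]
        refine ⟨hst, ?_⟩
        rw [hE _ hst]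
        have h1 : e ⟨s * t, hst⟩ = e ⟨s, hs⟩ * e ⟨t, ht⟩ := by
          rw [← map_mul]
          rfl
        rw [h1]
        exact hmul _ _ ((hE _ hs).1 hs2) ((hE _ ht).1 ht2)
      inv_mem' := by
        rintro s ⟨hs, hs2⟩
        exact ⟨by rw [inv_smul_eq_iff, hs], by rw [inv_pow, hs2, inv_one]⟩ }
  have hL : ∀ t : T, t ∈ L ↔ t • a = a ∧ t ^ 2 = 1 := fun t => Iff.rfl
  have hcard : Nat.card L = 2 ^ 2 := by
    have h1 : Nat.card {x : alternatingGroup (Fin 4) // x ^ 2 = 1} = 4 := by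
      rw [Nat.card_eq_fintype_card]
      decide
    rw [← show (4 : ℕ) = 2 ^ 2 from rfl, ← h1]
    refine Nat.card_congr (Equiv.ofBijective
      (fun t : L => (⟨e ⟨t.1, t.2.1⟩, (hE _ t.2.1).1 t.2.2⟩ : {x : alternatingGroup (Fin 4) // x ^ 2 = 1})) ⟨?_, ?_⟩)
    · intro s t hst
      have h2 : e ⟨s.1, s.2.1⟩ = e ⟨t.1, t.2.1⟩ := congrArg Subtype.val hst
      have h3 : (⟨s.1, s.2.1⟩ : ↥(stabilizer ↥T a)) = ⟨t.1, t.2.1⟩ := e.injective h2
      have h4 : s.1 = t.1 := congrArg (fun z : ↥(stabilizer ↥T a) => (z : ↥T)) h3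
      exact Subtype.ext h4
    · rintro ⟨x, hx⟩
      obtain ⟨⟨t, ht⟩, rfl⟩ := e.surjective x
      exact ⟨⟨t, ht, (hE _ ht).2 hx⟩, rfl⟩
  have hne : L ≠ ⊥ := by
    intro h
    rw [h, Subgroup.card_bot] at hcard
    norm_num at hcard
  have h1 : Subgroup.normalizer (L : Set T) ≤ stabilizer ↥T a := fun w hw => normalizer_le A a L 2 hL hne hw
  have h2 : 2 ^ (2 + 1) ∣ Nat.card (Subgroup.normalizer (L : Set T)) := by
    have : Fact (Nat.Prime 2) := ⟨Nat.prime_two⟩
    exact Sylow.prime_pow_dvd_card_normalizer (by rw [hT]; norm_num) hcard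
  have h3 := h2.trans (Subgroup.card_dvd_of_le h1)
  have h4 : Nat.card (stabilizer ↥T a) = 12 := by
    rw [Nat.card_congr e.toEquiv, nat_card_alternatingGroup]
    simp [Nat.factorial]
  rw [h4] at h3
  norm_num at h3

theorem odd_case (A : TC G Ω T g) {F : Type w} [Field F] [Fintype F]
    (e : ↥T ≃* Matrix.ProjectiveSpecialLinearGroup (Fin 2) F) (h7 : 7 ≤ Fintype.card F) (h9 : Fintype.card F ≠ 9)
    (hodd : Fintype.card F % 2 = 1) : rk G Ω ≤ 3 := by
  by_contra hcon
  have := A.finG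
  have := A.finΩ
  have := A.simple
  have := A.norm
  obtain ⟨htr, hidx'⟩ := exists_index A
  have hge := card_ge A (md_odd e) hcon
  have hle := (card_le A.two).trans
    (Nat.mul_le_mul_left 2 (orderOf_le A.cent ((mo_psl2 h7).congr e.symm) g))
  have hne : Nonempty Ω := by
    rw [← not_isEmpty_iff]
    intro hE
    rw [Nat.card_of_isEmpty] at hge
    omega
  obtain ⟨a⟩ := hne
  obtain ⟨hidx, htop⟩ := hidx' a
  obtain ⟨p, hpc⟩ := CharP.exists F
  obtain ⟨f, hp, hF⟩ := FiniteField.card F p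
  have : Fact p.Prime := ⟨hp⟩
  obtain ⟨q, hq⟩ : ∃ q, Fintype.card F = q := ⟨_, rfl⟩
  obtain ⟨n, hn'⟩ : ∃ n, Nat.card Ω = n := ⟨_, rfl⟩
  obtain ⟨h, hh⟩ : ∃ h, Nat.card (stabilizer ↥T a) = h := ⟨_, rfl⟩
  have hcT : Nat.card ↥T = Nat.card (Matrix.ProjectiveSpecialLinearGroup (Fin 2) F) := Nat.card_congr e.toEquiv
  have hd : Nat.gcd 2 (Fintype.card F - 1) = 2 := by
    apply Nat.gcd_eq_left
    omega
  have ht : 2 * (n * h) = q * (q ^ 2 - 1) := by
    rw [← hn', ← hh, ← hidx, Subgroup.index_mul_card, hcT, ← hq, ← PSL2Basic.card_PSL2_gcd, hd, mul_comm]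
  rw [hq] at hF h7 h9 hodd hge hle hd
  rw [hn'] at hge hle
  have hn1 : n ≠ 1 := by
    intro h1
    rw [h1] at hge
    omega
  have key : q * (q - 1) ≤ 4 * h := by
    rw [H436.TT.sq_sub_one] at ht
    have h1 : n * h ≤ 2 * (q + 1) * h := Nat.mul_le_mul_right _ hle
    have h2 : (q + 1) * (q * (q - 1)) ≤ (q + 1) * (4 * h) := by
      calc (q + 1) * (q * (q - 1)) = q * ((q - 1) * (q + 1)) := by ring
        _ = 2 * (n * h) := ht.symm
        _ ≤ 2 * (2 * (q + 1) * h) := Nat.mul_le_mul_left _ h1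
        _ = _ := by ring
    exact Nat.le_of_mul_le_mul_left h2 (by omega)
  set H : Subgroup (Matrix.ProjectiveSpecialLinearGroup (Fin 2) F) := (stabilizer ↥T a).map e.toMonoidHom with hH
  have eH : ↥(stabilizer ↥T a) ≃* ↥H := (stabilizer ↥T a).equivMapOfInjective e.toMonoidHom e.injective
  have hHc : Nat.card H = h := by
    rw [← hh]
    exact (Nat.card_congr eH.toEquiv).symm
  obtain ⟨r, hr⟩ : ∃ r, q = r + 7 := ⟨q - 7, by omega⟩
  rcases Cfsg.Agent.S0799.result hq p H with ⟨k, hk, h1⟩ | ⟨P, K, hK, ⟨e1⟩⟩ | ⟨⟨e1⟩⟩ | ⟨⟨e1⟩⟩ | ⟨⟨e1⟩⟩ |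
    ⟨K, _, _, m, hm, h1⟩
  · -- cyclic or dihedral
    rw [hd] at hk
    have hdk : 2 * k ≤ q + 1 := by
      rcases hk with hk | hk
      · have := Nat.le_of_dvd (by omega) hk
        omega
      · have := Nat.le_of_dvd (by omega) hk
        omega
    have hdh : h ≤ q + 1 := by
      rcases h1 with ⟨-, h1⟩ | ⟨⟨e1⟩⟩
      · rw [hHc] at h1
        omega
      · have h2 : Nat.card H = 2 * k := by rw [Nat.card_congr e1.toEquiv, DihedralGroup.nat_card]
        rw [hHc] at h2
        omega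
    subst hr
    rw [show r + 7 - 1 = r + 6 by omega] at key
    nlinarith
  · -- Borel
    by_cases hph : p ∣ h
    · have hQ : ∀ Q : Sylow p ↥H, (Q : Subgroup ↥H).Normal := by
        intro Q
        have hs : Function.Surjective e1.toMonoidHom := e1.surjective
        have h1 := H436.TT.sylow_normal_of_le P hK (Q.mapSurjective hs)
        have h2 : (Q : Subgroup ↥H) = ((Q.mapSurjective hs : Sylow p ↥K) : Subgroup ↥K).comap e1.toMonoidHom := by
          rw [Sylow.coe_mapSurjective, Subgroup.comap_map_eq_self_of_injective e1.injective]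
        rw [h2]
        exact h1.comap _
      obtain ⟨Q⟩ : Nonempty (Sylow p ↥H) := inferInstance
      obtain ⟨P1, hP1⟩ := PSL2ElemOrder.exists_le_normalizer_of_sylow_normal p H Q (hQ Q) (by rw [hHc]; exact hph)
      have h2 := index_eq_of_ti' A e a (PSL2ElemOrder.sylow_eq_of_mem p) P1 hP1 (by rw [hh]; exact hph)
      rw [hn', H436.TT.index_normalizer, hq] at h2
      omega
    · -- `h` divides `(q - 1) / 2`
      have h1 : h ∣ Nat.card (Subgroup.normalizer ((P : Subgroup (Matrix.ProjectiveSpecialLinearGroup (Fin 2) F)) :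
          Set (Matrix.ProjectiveSpecialLinearGroup (Fin 2) F))) := by
        rw [← hHc, Nat.card_congr e1.toEquiv]
        exact Subgroup.card_dvd_of_le hK
      have h2 : 2 * h ∣ q * (q - 1) := by
        have h3 := Subgroup.index_mul_card (Subgroup.normalizer
          ((P : Subgroup (Matrix.ProjectiveSpecialLinearGroup (Fin 2) F)) :
            Set (Matrix.ProjectiveSpecialLinearGroup (Fin 2) F)))
        rw [H436.TT.index_normalizer, hq] at h3
        have h4 := PSL2Basic.card_PSL2_gcd (F := F)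
        rw [← h3, hq, hd, H436.TT.sq_sub_one] at h4
        have h5 : 2 * Nat.card (Subgroup.normalizer
          ((P : Subgroup (Matrix.ProjectiveSpecialLinearGroup (Fin 2) F)) :
            Set (Matrix.ProjectiveSpecialLinearGroup (Fin 2) F))) = q * (q - 1) := by
          apply Nat.eq_of_mul_eq_mul_left (show 0 < q + 1 by omega)
          calc _ = (q + 1) * Nat.card (Subgroup.normalizer
                ((P : Subgroup (Matrix.ProjectiveSpecialLinearGroup (Fin 2) F)) :
                  Set (Matrix.ProjectiveSpecialLinearGroup (Fin 2) F))) * 2 := by ring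
            _ = _ := h4
            _ = _ := by ring
        rw [← h5]
        exact Nat.mul_dvd_mul_left _ h1
      have h3 : Nat.Coprime h q := by
        rw [hF]
        exact Nat.Coprime.pow_right _ ((Nat.Prime.coprime_iff_not_dvd hp).2 hph).symm
      have h4 : h ∣ q - 1 := by
        apply h3.dvd_of_dvd_mul_left
        exact (Dvd.intro_left 2 rfl).trans h2
      have h5 := Nat.le_of_dvd (by omega) h4
      subst hr
      rw [show r + 7 - 1 = r + 6 by omega] at key h5
      nlinarith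
  · -- `A₄`
    have h1 : h = 12 := by
      rw [← hHc, Nat.card_congr e1.toEquiv, nat_card_alternatingGroup]
      simp [Nat.factorial]
    have h2 : q = 7 := by
      subst hr
      rw [h1, show r + 7 - 1 = r + 6 by omega] at key
      nlinarith
    refine no_a4 A a (eH.trans e1) ?_
    rw [hcT]
    have h4 := PSL2Basic.card_PSL2_gcd (F := F)
    rw [hq, hd, h2] at h4
    omega
  · -- `S₄`
    have h1 : h = 24 := by
      rw [← hHc, Nat.card_congr e1.toEquiv, Nat.card_perm]
      simp [Nat.factorial]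
    have h2 : q < 11 := by
      subst hr
      rw [h1, show r + 7 - 1 = r + 6 by omega] at key
      nlinarith
    rw [h1] at ht
    interval_cases q <;> omega
  · -- `A₅`
    have h1 : h = 60 := by
      rw [← hHc, Nat.card_congr e1.toEquiv, nat_card_alternatingGroup]
      simp [Nat.factorial]
    have h2 : q < 17 := by
      subst hr
      rw [h1, show r + 7 - 1 = r + 6 by omega] at key
      nlinarith
    have h15 : q ≠ 15 := by
      intro h15
      rw [h15] at hF
      have h3 : 3 ∣ p ^ (f : ℕ) := by rw [← hF]; norm_num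
      have h5 : 5 ∣ p ^ (f : ℕ) := by rw [← hF]; norm_num
      have h3' := (Nat.prime_dvd_prime_iff_eq Nat.prime_three hp).1 (Nat.prime_three.dvd_of_dvd_pow h3)
      have h5' := (Nat.prime_dvd_prime_iff_eq Nat.prime_five hp).1 (Nat.prime_five.dvd_of_dvd_pow h5)
      omega
    rw [h1] at ht
    interval_cases q <;> omega
  · -- subfield
    have hm1 : 1 ≤ m := by
      rcases Nat.eq_zero_or_pos m with h2 | h2
      · rw [h2, pow_zero] at hm
        omega
      · exact h2
    obtain ⟨c, hc1, hc2, hc⟩ : ∃ c, 1 ≤ c ∧ c ≤ 2 ∧ c * h = Fintype.card K * (Fintype.card K ^ 2 - 1) := by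
      rcases h1 with ⟨⟨e1⟩⟩ | ⟨⟨e1⟩⟩
      · refine ⟨Nat.gcd 2 (Fintype.card K - 1), Nat.gcd_pos_of_pos_left _ (by norm_num),
          Nat.gcd_le_left _ (by norm_num), ?_⟩
        rw [← hHc, Nat.card_congr e1.toEquiv, mul_comm, PSL2Basic.card_PSL2_gcd]
      · refine ⟨1, le_rfl, by norm_num, ?_⟩
        rw [← hHc, Nat.card_congr e1.toEquiv, one_mul, PSL2Basic.card_PGL2]
    rcases Nat.lt_or_ge m 2 with hm2 | hm2
    · have : m = 1 := by omega
      subst this
      rw [pow_one] at hm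
      rw [hm, ← ht] at hc
      have h2 : 0 < h := by
        rw [← hh]
        exact Nat.card_pos
      have h3 : c = 2 * n := by
        apply Nat.eq_of_mul_eq_mul_right h2
        rw [hc]
        ring
      omega
    · refine num_pgl h7 h9 hodd hm hm2 ?_ key
      rw [← hc]
      exact Nat.le_mul_of_pos_left _ hc1

/-- **TEAM TWOCYC, row `PSL₂(q)`.** -/
theorem row_psl2 : Row3.{u, v} (fun T _ => ∃ (F : Type w) (_ : Field F) (_ : Fintype F), 7 ≤ Fintype.card F ∧
    Fintype.card F ≠ 9 ∧ Nonempty (T ≃* Matrix.ProjectiveSpecialLinearGroup (Fin 2) F)) := by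
  rintro G Ω _ _ T g A ⟨F, _, _, h7, h9, ⟨e⟩⟩
  rcases Nat.mod_two_eq_zero_or_one (Fintype.card F) with h2 | h2
  · have := A.finG
    have := A.simple
    refine row_smC G Ω T g A ⟨Fintype.card F + 1, Fintype.card F - 1, (mo_psl2 h7).congr e.symm,
      md_even e (Nat.dvd_of_mod_eq_zero h2), ?_⟩
    omega
  · exact odd_case A e h7 h9 h2

end main

end Cfsg.Agent.H47.TwoCyc
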