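import Cfsg.Agent.H482.TwoCyc.Row

/-!
# Tools for TEAM TWOCYC (helper47, S3507)

* `card_ge` : rank at least 4 and all non-linear irreducible characters of the socle of degree at least `δ` give `3 δ < |Ω|`;
* `normalizer_le` : normalizers of subgroups `{t ∈ T_a | t ^ N = 1}` are contained in `T_a`.
-/

set_option autoImplicit false

namespace Cfsg.Agent.H47.TwoCyc

open MulAction Cfsg.Agent.H384.Cyc Cfsg.Agent.H482.TwoCyc
open Cfsg Cfsg.Agent.PermutationGroups.MultFree Cfsg.Agent.PermutationGroups.IrrSum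
  Cfsg.Agent.PermutationGroups.Subdegree
open Cfsg.Agent.Characters.Core (isCharacter_comp isIrr_isCharacter isCharacter_one classInner_isNat
  classInner_irr_self)

universe u v

variable {G : Type u} {Ω : Type v} [Group G] [MulAction G Ω] {T : Subgroup G} {g : G}

/-- Rank at least 4 forces at least `3 δ + 1` points (the argument of `H482.TwoCyc.row_smC`). -/
theorem card_ge (h : TC G Ω T g) {δ : ℕ} (hδ : H954.OutDeg.MD ↥T δ) (hcon : ¬ rk G Ω ≤ 3) : 3 * δ < Nat.card Ω := by
  classical
  have := h.finG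
  have := h.finΩ
  have := h.norm
  have := h.simple
  have := h.prim
  obtain ⟨htr, h1⟩ := exists_index h
  have hne : Nonempty Ω := by
    by_contra hcon
    rw [not_nonempty_iff] at hcon
    have := h.two
    unfold Two at this
    rw [Nat.card_of_isEmpty] at this
    omega
  obtain ⟨a⟩ := hne
  have := Fintype.ofFinite G
  have := Fintype.ofFinite Ω
  have := Fintype.ofFinite T
  have htrG : IsPretransitive G Ω := h.prim.toIsPretransitive
  have := Fintype.ofFinite (Subgroup.zpowers g)
  obtain ⟨m, hm1, hm2, hm3, hm4⟩ := exists_decomp' (G := G) a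
  obtain ⟨c, hc⟩ := exists_mult (Subgroup.zpowers g)
  obtain ⟨t, ht⟩ := exists_mult T
  have hoC := card_orbits (Subgroup.zpowers g) hc hm1
  have hoT := card_orbits T ht hm1
  set one : IrrCharacter G := ⟨_, isIrr_one⟩ with hone
  have hmem : one ∈ m.support := by
    rw [Finsupp.mem_support_iff, hm2]
    exact one_ne_zero
  obtain ⟨S, hS⟩ : ∃ S, S = m.support.erase one := ⟨_, rfl⟩
  have hsplit : ∀ f : IrrCharacter G → ℕ, ∑ ψ ∈ m.support, f ψ = f one + ∑ ψ ∈ S, f ψ := by
    intro f
    rw [hS]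
    exact (Finset.add_sum_erase _ f hmem).symm
  have hself : ∀ (K : Subgroup G) [Fintype K] (r : IrrCharacter G → ℕ),
      (∀ ψ : IrrCharacter G, classInner (fun k : K => (ψ : G → ℂ) k) (fun _ => 1) = r ψ) →
      r one = 1 := by
    intro K _ r hr
    have h5 := hr one
    have h6 : classInner (fun k : K => (one : G → ℂ) k) (fun _ => 1) = 1 := classInner_irr_self (G := K) isIrr_one
    rw [h6] at h5
    exact_mod_cast h5.symm
  have hc1 := hself _ c hc
  have ht1 := hself _ t ht
  rw [h.two, hsplit, hm2, hc1] at hoC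
  have hT1 : Nat.card (orbitRel.Quotient T Ω) = 1 := by
    rw [Nat.card_eq_one_iff_unique]
    refine ⟨⟨fun x y => ?_⟩, ⟨Quotient.mk'' a⟩⟩
    obtain ⟨x, rfl⟩ := Quotient.exists_rep x
    obtain ⟨y, rfl⟩ := Quotient.exists_rep y
    obtain ⟨s, hs⟩ := exists_smul_eq T y x
    exact Quotient.sound ⟨s, hs⟩
  rw [hT1, hsplit, hm2, ht1] at hoT
  have hoT' : ∑ ψ ∈ S, m ψ * t ψ = 0 := by omega
  rw [Finset.sum_eq_zero_iff] at hoT'
  have hrk : rk G Ω = Nat.card (orbitRel.Quotient (stabilizer G a) Ω) := Cfsg.Agent.S0669.result a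
  rw [hrk, ← hm3, hsplit, hm2] at hcon
  have key := three_le_sum S m c (by omega) (by omega)
  rw [hsplit, hm2] at hm4
  have hd1 : 1 ≤ charDegree (one : G → ℂ) :=
    Cfsg.Agent.Blocks.Basic.charDegree_pos (isIrr_one (G := G))
  have hsum : (∑ ψ ∈ S, m ψ) * δ ≤ ∑ ψ ∈ S, m ψ * charDegree (ψ : G → ℂ) := by
    rw [Finset.sum_mul]
    refine Finset.sum_le_sum fun ψ hψ => Nat.mul_le_mul_left _ ?_
    refine le_charDegree T h.nonab hδ ψ ?_
    have h5 := hoT' ψ hψ
    have h6 : m ψ ≠ 0 := by
      rw [hS] at hψ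
      exact Finsupp.mem_support_iff.mp (Finset.mem_of_mem_erase hψ)
    have h7 : t ψ = 0 := by
      rcases Nat.mul_eq_zero.mp h5 with h8 | h8
      · exact absurd h8 h6
      · exact h8
    rw [ht, h7, Nat.cast_zero]
  have h5 : 3 * δ ≤ (∑ ψ ∈ S, m ψ) * δ := Nat.mul_le_mul_right _ key
  omega

/-- Characteristic subgroups of the stabilizer in the socle are self-normalizing in this sense. -/
theorem normalizer_le (h : TC G Ω T g) (a : Ω) (L : Subgroup T) (N : ℕ)
    (hL : ∀ t : T, t ∈ L ↔ t • a = a ∧ t ^ N = 1) (hne : L ≠ ⊥) {w : T} (hw : w ∈ Subgroup.normalizer (L : Set T)) :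
    w • a = a := by
  have := h.finG
  have := h.finΩ
  have := h.norm
  have := h.simple
  have := h.prim
  obtain ⟨htr, h1⟩ := exists_index h
  obtain ⟨-, h2⟩ := h1 a
  have hconj : ∀ x : G, x • a = a → ∀ t : T, t ∈ L → (⟨x * t * x⁻¹, h.norm.conj_mem _ t.2 x⟩ : T) ∈ L := by
    intro x hx t ht
    obtain ⟨h3, h4⟩ := (hL t).1 ht
    refine (hL _).2 ⟨?_, ?_⟩
    · show (x * (t : G) * x⁻¹) • a = a
      have h5 : x⁻¹ • a = a := by rw [inv_smul_eq_iff, hx]
      rw [mul_smul, mul_smul, h5]
      have h6 : (t : G) • a = a := h3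
      rw [h6, hx]
    · apply Subtype.ext
      show (x * (t : G) * x⁻¹) ^ N = 1
      rw [conj_pow]
      have h6 : (t : G) ^ N = 1 := congrArg Subtype.val h4
      rw [h6, mul_one, mul_inv_cancel]
  set X : Subgroup G := Subgroup.normalizer ((L.map T.subtype : Subgroup G) : Set G) with hX
  have hle : stabilizer G a ≤ X := by
    intro x hx
    rw [hX, Subgroup.mem_normalizer_iff]
    have hx' : x • a = a := hx
    have hx'' : x⁻¹ • a = a := by rw [inv_smul_eq_iff, hx']
    intro y
    constructor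
    · rintro ⟨t, ht, rfl⟩
      exact ⟨_, hconj x hx' t ht, rfl⟩
    · rintro ⟨t, ht, hty⟩
      refine ⟨_, hconj x⁻¹ hx'' t ht, ?_⟩
      show x⁻¹ * (t : G) * x⁻¹⁻¹ = y
      have h5 : (t : G) = x * y * x⁻¹ := hty
      rw [h5]
      group
  have hnt : Nontrivial Ω := by
    by_contra hcon
    rw [not_nontrivial_iff_subsingleton] at hcon
    apply h2
    rw [eq_top_iff]
    intro t _
    exact Subsingleton.elim _ _
  have hco : IsCoatom (stabilizer G a) := MulAction.IsPreprimitive.isCoatom_stabilizer_of_isPreprimitive (G := G) a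
  rcases hco.le_iff.1 hle with h3 | h3
  · exfalso
    have hn : L.Normal := by
      refine ⟨fun t ht s => ?_⟩
      have h5 : (s : G) ∈ X := by rw [h3]; trivial
      rw [hX, Subgroup.mem_normalizer_iff] at h5
      obtain ⟨t', ht', h6⟩ := (h5 (t : G)).1 ⟨t, ht, rfl⟩
      have h7 : t' = s * t * s⁻¹ := Subtype.ext h6
      rwa [← h7]
    rcases hn.eq_bot_or_eq_top with h5 | h5
    · exact hne h5
    · apply h2
      rw [eq_top_iff]
      intro t _
      have h6 : t ∈ L := by rw [h5]; trivial
      exact ((hL t).1 h6).1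
  · have h5 : (w : G) ∈ X := by
      rw [hX, Subgroup.mem_normalizer_iff]
      rw [Subgroup.mem_normalizer_iff] at hw
      intro y
      constructor
      · rintro ⟨t, ht, rfl⟩
        exact ⟨_, (hw t).1 ht, rfl⟩
      · rintro ⟨t, ht, hty⟩
        refine ⟨w⁻¹ * t * w, (hw _).2 ?_, ?_⟩
        · have h6 : w * (w⁻¹ * t * w) * w⁻¹ = t := by group
          rw [h6]; exact ht
        · show (w : G)⁻¹ * (t : G) * (w : G) = y
          have h6 : (t : G) = w * y * (w : G)⁻¹ := hty
          rw [h6]
          group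
    rw [h3] at h5
    exact h5

theorem nontrivial_omega (h : TC G Ω T g) (a : Ω) : Nontrivial Ω := by
  obtain ⟨-, h1⟩ := exists_index h
  obtain ⟨-, h2⟩ := h1 a
  by_contra hcon
  rw [not_nontrivial_iff_subsingleton] at hcon
  apply h2
  rw [eq_top_iff]
  intro t _
  exact Subsingleton.elim _ _

theorem mem_of_pow_eq_one {X : Type*} [Group X] [Finite X] {p : ℕ} [Fact p.Prime] (Q : Sylow p X) {x : X}
    (hx : orderOf x = p) (hn : x ∈ Subgroup.normalizer ((Q : Subgroup X) : Set X)) : x ∈ (Q : Subgroup X) := by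
  have h1 : IsPGroup p (Subgroup.zpowers x) := by
    apply IsPGroup.of_card (n := 1)
    rw [Nat.card_zpowers, hx, pow_one]
  have h2 := h1.inf_normalizer_sylow Q
  have h3 : x ∈ Subgroup.zpowers x ⊓ Subgroup.normalizer ((Q : Subgroup X) : Set X) :=
    ⟨Subgroup.mem_zpowers x, hn⟩
  exact (h2.le h3).2

/-- If the point stabiliser of `T` normalises a Sylow `p`-subgroup of `T` and has order divisible by `p`, and
different Sylow `p`-subgroups of `T` intersect trivially, then it is the whole normaliser (the argument of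
`H436.TT.index_eq_of_ti`). -/
theorem index_eq_of_ti (A : TC G Ω T g) (a : Ω) {p : ℕ} [Fact p.Prime]
    (hTI : ∀ (P Q : Sylow p ↥T) (x : ↥T), x ≠ 1 → x ∈ (P : Subgroup ↥T) → x ∈ (Q : Subgroup ↥T) → P = Q)
    (P : Sylow p ↥T) (hP : stabilizer ↥T a ≤ Subgroup.normalizer ((P : Subgroup ↥T) : Set ↥T))
    (hp : p ∣ Nat.card (stabilizer ↥T a)) :
    Nat.card Ω = (Subgroup.normalizer ((P : Subgroup ↥T) : Set ↥T)).index := by
  have := A.finG
  have := A.finΩ
  have := nontrivial_omega A a
  have := A.norm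
  have hprim := A.prim
  obtain ⟨x, hx⟩ := exists_prime_orderOf_dvd_card' p hp
  obtain ⟨x, hxH⟩ := x
  rw [Subgroup.orderOf_mk] at hx
  have hx1 : x ≠ 1 := by
    rintro rfl
    rw [orderOf_one] at hx
    exact (Fact.out : p.Prime).one_lt.ne hx
  have hxP : x ∈ (P : Subgroup ↥T) := mem_of_pow_eq_one P hx (hP hxH)
  -- the image of `P` in `G`
  set P' : Subgroup G := (P : Subgroup ↥T).map T.subtype with hP'
  have hfix : ∀ g ∈ stabilizer G a,
      (P : Subgroup ↥T).map ((MulAut.conjNormal g : MulAut ↥T) : ↥T ≃* ↥T).toMonoidHom = P := by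
    intro g hg
    set α : ↥T ≃* ↥T := (MulAut.conjNormal g : MulAut ↥T) with hα
    have hsurj : Function.Surjective α.toMonoidHom := α.surjective
    have h1 : x ∈ Subgroup.normalizer (((P : Subgroup ↥T).map α.toMonoidHom : Subgroup ↥T) : Set ↥T) := by
      rw [← Subgroup.map_equiv_normalizer_eq]
      refine ⟨α.symm x, hP ?_, ?_⟩
      · rw [mem_stabilizer_iff]
        have h2 : ((α.symm x : ↥T) : G) = g⁻¹ * (x : G) * g := by
          rw [hα]
          exact MulAut.conjNormal_symm_apply g x
        have h3 : (x : G) • a = a := hxH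
        have h4 : g • a = a := hg
        have h5 : g⁻¹ • a = a := by rw [inv_smul_eq_iff]; exact h4.symm
        change ((α.symm x : ↥T) : G) • a = a
        rw [h2, mul_smul, mul_smul, h4, h3, h5]
      · exact α.apply_symm_apply x
    have h2 := mem_of_pow_eq_one (P.mapSurjective hsurj) hx h1
    have h3 := hTI P (P.mapSurjective hsurj) x hx1 hxP h2
    exact (congrArg (fun Q : Sylow p ↥T => (Q : Subgroup ↥T)) h3).symm
  have hle : stabilizer G a ≤ Subgroup.normalizer (P' : Set G) := by
    intro g hg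
    rw [Subgroup.mem_normalizer_iff_map_conj_eq]
    have h1 := hfix g hg
    rw [hP', Subgroup.map_map]
    conv_rhs => rw [← h1, Subgroup.map_map]
    congr 1
  have hco := IsPreprimitive.isCoatom_stabilizer_of_isPreprimitive (G := G) a
  have htop : Subgroup.normalizer (P' : Set G) ≠ ⊤ := by
    intro htop
    have hn : P'.Normal := Subgroup.normalizer_eq_top_iff.1 htop
    have hn2 : (P : Subgroup ↥T).Normal := by
      refine ⟨fun y hy t => ?_⟩
      have h1 : (y : G) ∈ P' := ⟨y, hy, rfl⟩
      obtain ⟨z, hz, hz2⟩ := hn.conj_mem _ h1 (t : G)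
      have h3 : z = t * y * t⁻¹ := Subtype.ext hz2
      rwa [← h3]
    have := A.simple
    rcases hn2.eq_bot_or_eq_top with h | h
    · rw [h] at hxP
      exact hx1 (Subgroup.mem_bot.1 hxP)
    · -- `T` is a `p`-group
      have h1 : IsPGroup p ↥T := by
        have h2 := P.2
        rw [show P.toSubgroup = ⊤ from h] at h2
        exact h2.of_equiv Subgroup.topEquiv
      have h2 : Nontrivial (Subgroup.center ↥T) := h1.center_nontrivial
      have h3 : (Subgroup.center ↥T).Normal := inferInstance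
      rcases h3.eq_bot_or_eq_top with h | h
      · rw [h] at h2
        exact (not_nontrivial _ h2)
      · apply A.nonab
        refine ⟨⟨fun s t => ?_⟩⟩
        have : t ∈ Subgroup.center ↥T := by rw [h]; trivial
        exact Subgroup.mem_center_iff.1 this s
  have heq : Subgroup.normalizer (P' : Set G) = stabilizer G a := by
    rcases hco.le_iff.1 hle with h | h
    · exact absurd h htop
    · exact h
  have h1 : stabilizer ↥T a = Subgroup.normalizer ((P : Subgroup ↥T) : Set ↥T) := by
    refine le_antisymm hP ?_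
    intro t ht
    rw [mem_stabilizer_iff]
    have h2 : (t : G) ∈ Subgroup.normalizer (P' : Set G) := by
      rw [Subgroup.mem_normalizer_iff_map_conj_eq] at ht ⊢
      rw [hP', Subgroup.map_map]
      conv_rhs => rw [← ht, Subgroup.map_map]
      congr 1
    rw [heq] at h2
    exact h2
  rw [← h1]
  exact ((exists_index A).2 a).1.symm

/-- The same for a group isomorphic to `T`. -/
theorem index_eq_of_ti' (A : TC G Ω T g) {T₀ : Type*} [Group T₀] (e : ↥T ≃* T₀) (a : Ω) {p : ℕ} [Fact p.Prime]
    (hTI : ∀ (P Q : Sylow p T₀) (x : T₀), x ≠ 1 → x ∈ (P : Subgroup T₀) → x ∈ (Q : Subgroup T₀) → P = Q)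
    (P : Sylow p T₀) (hP : (stabilizer ↥T a).map e.toMonoidHom ≤ Subgroup.normalizer ((P : Subgroup T₀) : Set T₀))
    (hp : p ∣ Nat.card (stabilizer ↥T a)) :
    Nat.card Ω = (Subgroup.normalizer ((P : Subgroup T₀) : Set T₀)).index := by
  have := A.finG
  have : Finite T₀ := Finite.of_equiv _ e.toEquiv
  have hs : Function.Surjective e.symm.toMonoidHom := e.symm.surjective
  have hs' : Function.Surjective e.toMonoidHom := e.surjective
  have hmm : ∀ R : Subgroup T₀, (R.map e.symm.toMonoidHom).map e.toMonoidHom = R := by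
    intro R
    rw [Subgroup.map_map]
    convert Subgroup.map_id R
    ext x
    exact e.apply_symm_apply x
  have hmm' : ∀ R : Subgroup ↥T, (R.map e.toMonoidHom).map e.symm.toMonoidHom = R := by
    intro R
    rw [Subgroup.map_map]
    convert Subgroup.map_id R
    ext x
    exact congrArg Subtype.val (e.symm_apply_apply x)
  have h1 := index_eq_of_ti A a (p := p) ?_ (P.mapSurjective hs) ?_ hp
  · rw [h1]
    have h2 : Subgroup.normalizer (((P.mapSurjective hs : Sylow p ↥T) : Subgroup ↥T) : Set ↥T) =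
        (Subgroup.normalizer ((P : Subgroup T₀) : Set T₀)).map e.symm.toMonoidHom := by
      rw [Subgroup.map_equiv_normalizer_eq]
      rfl
    rw [h2]
    exact Subgroup.index_map_of_bijective e.symm.bijective _
  · intro P1 P2 x hx h1 h2
    have h3 := hTI (P1.mapSurjective hs') (P2.mapSurjective hs') (e x) (by simpa using hx) ⟨x, h1, rfl⟩ ⟨x, h2, rfl⟩
    apply Sylow.ext
    have h4 := congrArg (fun R : Sylow p T₀ => (R : Subgroup T₀).map e.symm.toMonoidHom) h3
    simp only [Sylow.coe_mapSurjective] at h4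
    rwa [hmm', hmm'] at h4
  · have h2 := Subgroup.map_mono (f := e.symm.toMonoidHom) hP
    rw [hmm', Subgroup.map_equiv_normalizer_eq] at h2
    exact h2

end Cfsg.Agent.H47.TwoCyc
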